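import Groth.Agent.SteinEtLib.BC
/-!
Functions after a flat base change of a morphism to an affine scheme which is bijective on functions.
-/

set_option autoImplicit false
set_option backward.isDefEq.respectTransparency false
set_option backward.isDefEq.respectTransparency.types false
set_option linter.style.haveILetI false

universe u

open CategoryTheory CategoryTheory.Limits AlgebraicGeometry TopologicalSpace TensorProduct Opposite

noncomputable section

namespace Groth.Agent.PushGmTorusLib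

theorem appTop_bijective_of_isPullback {X Y X' Y' : Scheme.{u}} {h : X ⟶ Y} {g : Y' ⟶ Y} {g' : X' ⟶ X} {h' : X' ⟶ Y'}
    [IsAffine Y] [QuasiCompact h] [QuasiSeparated h] [Flat g] (sq : IsPullback g' h' h g)
    (hh : Function.Bijective h.appTop) : Function.Bijective h'.appTop := by
  let φ : Y'.sheaf ⟶ (TopCat.Sheaf.pushforward _ h'.base).obj X'.sheaf := ⟨h'.c⟩
  have hiso : IsIso φ := by
    refine TopCat.Sheaf.isIso_iff_isIso_basis (B := fun V : Y'.affineOpens => V.1)
      (by simpa [Set.range] using Y'.isBasis_affineOpens) (fun V => ?_)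
    obtain ⟨V, hV⟩ := V
    refine (ConcreteCategory.isIso_iff_bijective _).2 ?_
    show Function.Bijective (h'.app V)
    have e : V ≤ g ⁻¹ᵁ (⊤ : Y.Opens) := le_top
    have hb := SteinEtLib.bcHom_bijective_of_flat sq (isAffineOpen_top Y) hV e
    letI := (h.app ⊤).hom.toAlgebra
    letI := (g.appLE ⊤ V e).hom.toAlgebra
    let hh' : Γ(Y, ⊤) ≃ₐ[Γ(Y, ⊤)] Γ(X, h ⁻¹ᵁ ⊤) := AlgEquiv.ofBijective (Algebra.ofId _ _) hh
    let E : Γ(Y', V) ≃ₐ[Γ(Y', V)] Γ(Y', V) ⊗[Γ(Y, ⊤)] Γ(X, h ⁻¹ᵁ ⊤) :=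
      (Algebra.TensorProduct.rid Γ(Y, ⊤) Γ(Y', V) Γ(Y', V)).symm.trans
        (Algebra.TensorProduct.congr AlgEquiv.refl hh')
    have key : ∀ a, h'.app V a = SteinEtLib.bcHom sq.w e (E a) := fun a => by
      have : E a = a ⊗ₜ[Γ(Y, ⊤)] (1 : Γ(X, h ⁻¹ᵁ ⊤)) := by
        simp [E, hh']
      rw [this, SteinEtLib.bcHom_tmul, map_one, mul_one]
    refine (funext key : ⇑(h'.app V) = _) ▸ hb.comp E.bijective
  haveI : IsIso φ.hom := (inferInstance : IsIso ((TopCat.Sheaf.forget _ _).map φ))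
  haveI : IsIso (h'.c.app (op ⊤)) := (inferInstance : IsIso (φ.hom.app (op ⊤)))
  exact ConcreteCategory.bijective_of_isIso (h'.c.app (op ⊤))

end Groth.Agent.PushGmTorusLib

end
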