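import Groth.Agent.DSHomField.Main
/-!
An isomorphism of affine group schemes from a natural isomorphism of their points over affine test schemes.
-/

set_option autoImplicit false
set_option backward.isDefEq.respectTransparency false
set_option backward.isDefEq.respectTransparency.types false
set_option linter.style.haveILetI false

universe u

open CategoryTheory CategoryTheory.Limits MonoidalCategory CartesianMonoidalCategory MonObj AlgebraicGeometry

noncomputable section

namespace Groth.Agent.PushGmTorusLib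

variable {S : Scheme.{u}} {G H : Over S} [GrpObj G] [GrpObj H]

theorem nonempty_grpIso_of_pts [IsAffine G.left] [IsAffine H.left] [IsAffine (G ⊗ G).left]
    (Φ : ∀ (X : Over S) [IsAffine X.left], (X ⟶ G) ≃* (X ⟶ H))
    (nat : ∀ (X Y : Over S) [IsAffine X.left] [IsAffine Y.left] (a : X ⟶ Y) (x : Y ⟶ G),
      Φ X (a ≫ x) = a ≫ Φ Y x) :
    Nonempty (Grp.mk G ≅ Grp.mk H) := by
  let u : G ⟶ H := Φ G (𝟙 G)
  let v : H ⟶ G := (Φ H).symm (𝟙 H)
  have hu : ∀ (X : Over S) [IsAffine X.left] (x : X ⟶ G), Φ X x = x ≫ u := fun X _ x => by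
    show Φ X x = x ≫ Φ G (𝟙 G)
    rw [← nat, Category.comp_id]
  have hvu : v ≫ u = 𝟙 H := (hu H v).symm.trans ((Φ H).apply_symm_apply _)
  have huv : u ≫ v = 𝟙 G := by
    apply (Φ G).injective
    rw [hu, hu, Category.assoc, hvu, Category.id_comp, Category.comp_id]
  have hone : (1 : 𝟙_ (Over S) ⟶ G) ≫ u = 1 := by
    have h1 : toUnit G ≫ (1 : 𝟙_ (Over S) ⟶ G) = 1 := MonObj.comp_one _
    have h2 : toUnit G ≫ ((1 : 𝟙_ (Over S) ⟶ G) ≫ u) = toUnit G ≫ (1 : 𝟙_ (Over S) ⟶ H) := by
      rw [← Category.assoc, h1, ← hu, map_one, MonObj.comp_one]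
    have h3 := congrArg (η[G] ≫ ·) h2
    simp only [← Category.assoc] at h3
    rwa [toUnit_unique (η[G] ≫ toUnit G) (𝟙 _), Category.id_comp, Category.id_comp] at h3
  haveI : IsMonHom u :=
    { one_hom := by
        have e1 : (1 : 𝟙_ (Over S) ⟶ G) = η[G] := by
          rw [Hom.one_def, toUnit_unique (toUnit _) (𝟙 _), Category.id_comp]
        have e2 : (1 : 𝟙_ (Over S) ⟶ H) = η[H] := by
          rw [Hom.one_def, toUnit_unique (toUnit _) (𝟙 _), Category.id_comp]
        rw [← e1, ← e2, hone]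
      mul_hom := by
        have h : μ[G] = fst G G * snd G G := by
          rw [Hom.mul_def, lift_fst_snd, Category.id_comp]
        rw [h, ← hu, map_mul, hu, hu, Hom.mul_def, ← lift_map, lift_fst_snd, Category.id_comp] }
  let e : G ≅ H := ⟨u, v, huv, hvu⟩
  haveI : IsMonHom e.hom := ‹IsMonHom u›
  exact ⟨Grp.mkIso' e⟩

end Groth.Agent.PushGmTorusLib

end
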