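import Groth.Agent.WeilPtsLib.Exists
import Groth.Agent.PushGmTorusLib.Yoneda
import Groth.Prelude.Def_GmPts

/-!
The group scheme of units of a finite algebra over a field.
-/

set_option autoImplicit false
set_option backward.isDefEq.respectTransparency false
set_option backward.isDefEq.respectTransparency.types false
set_option linter.style.haveILetI false

universe u

open CategoryTheory CategoryTheory.Limits MonoidalCategory CartesianMonoidalCategory MonObj AlgebraicGeometry Opposite

noncomputable section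

namespace Groth.Agent.PushGmTorusLib

variable {S S' : Scheme.{u}} (π : S' ⟶ S)

/-- The map on total spaces of a base change. -/
abbrev bcMap {T T' : Over S} (t : T' ⟶ T) : (Red.bc π T').left ⟶ (Red.bc π T).left := ((Over.pullback π).map t).left

/-- The units upstairs, as a presheaf of groups downstairs. -/
def unitsFun : (Over S)ᵒᵖ ⥤ GrpCat.{u} where
  obj T := GrpCat.of (Γ((Red.bc π T.unop).left, ⊤))ˣ
  map t := GrpCat.ofHom (Units.map (bcMap π t.unop).appTop.hom.toMonoidHom)
  map_id T := GrpCat.ext fun v => Units.ext (by simp [bcMap])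
  map_comp s t := GrpCat.ext fun v => Units.ext (by simp [bcMap])

/-- Points of the base change of `G_m` are the units upstairs. -/
def bcGmEquiv (T : Over S) : (Red.bc π T ⟶ Red.bc π (Red.Gm S)) ≃* (Γ((Red.bc π T).left, ⊤))ˣ :=
  (FixedSmooth.adjEquiv π (Red.Gm S) (Red.bc π T)).symm.trans (GmPts.equiv _)

theorem bcGmEquiv_comp {T T' : Over S} (t : T' ⟶ T) (x : Red.bc π T ⟶ Red.bc π (Red.Gm S)) :
    bcGmEquiv π T' ((Over.pullback π).map t ≫ x) = Units.map (bcMap π t).appTop.hom.toMonoidHom (bcGmEquiv π T x) := by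
  show GmPts.unitOfPt (((Over.mapPullbackAdj π).homEquiv _ _).symm _) = _
  rw [Adjunction.homEquiv_naturality_left_symm, GmPts.unitOfPt_comp]
  rfl

/-- A group scheme whose points are the units upstairs. -/
structure UnitsRep where
  /-- the scheme -/
  R : Over S
  /-- the group structure -/
  grp : GrpObj R
  /-- it is commutative -/
  comm : IsCommMonObj R
  /-- it is affine -/
  aff : IsAffine R.left
  /-- points are units -/
  pt : ∀ T : Over S, (T ⟶ R) ≃* (Γ((Red.bc π T).left, ⊤))ˣ
  nat : ∀ (T T' : Over S) (t : T' ⟶ T) (x : T ⟶ R),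
    pt T' (t ≫ x) = Units.map (bcMap π t).appTop.hom.toMonoidHom (pt T x)

attribute [instance] UnitsRep.grp UnitsRep.comm UnitsRep.aff

theorem exists_unitsRep (k A : Type u) [Field k] [CommRing A] [Algebra k A] [Module.Finite k A] :
    Nonempty (UnitsRep (Spec.map (CommRingCat.ofHom (algebraMap k A)))) := by
  let π : Spec (CommRingCat.of A) ⟶ Spec (CommRingCat.of k) := Spec.map (CommRingCat.ofHom (algebraMap k A))
  let X' : Over (Spec (CommRingCat.of A)) := Red.bc π (Red.Gm (Spec (CommRingCat.of k)))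
  haveI : IsAffine (Red.diag (ULift.{u} ℤ) ℤ).left := isAffine_Spec _
  haveI : IsAffine (Red.Gm (Spec (CommRingCat.of k))).left :=
    inferInstanceAs (IsAffine (pullback (Red.diag (ULift.{u} ℤ) ℤ).hom _))
  haveI : IsAffine X'.left := inferInstanceAs (IsAffine (pullback _ _))
  obtain ⟨R, e, he⟩ := WeilPtsLib.exists_weil (B := k) (B' := A) X'
  have haff : IsAffine R.left := WeilPtsLib.isAffine_weil (Red.Gm (Spec (CommRingCat.of k))) R e
    (fun Z W h g => he Z W h g)
  let E : ∀ T : Over (Spec (CommRingCat.of k)), (T ⟶ R) ≃ (Γ((Red.bc π T).left, ⊤))ˣ :=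
    fun T => (e T).trans (bcGmEquiv π T).toEquiv
  have hE : ∀ {T T' : Over (Spec (CommRingCat.of k))} (t : T' ⟶ T) (x : T ⟶ R),
      E T' (t ≫ x) = Units.map (bcMap π t).appTop.hom.toMonoidHom (E T x) := fun {T T'} t x => by
    show bcGmEquiv π T' (e T' (t ≫ x)) = _
    rw [he, bcGmEquiv_comp]
    rfl
  let rep : (unitsFun π ⋙ forget _).RepresentableBy R :=
    { homEquiv := fun {T} => E T, homEquiv_comp := fun t x => hE t x }
  letI : GrpObj R := GrpObj.ofRepresentableBy R (unitsFun π) rep
  have hmul : ∀ (T : Over (Spec (CommRingCat.of k))) (a b : T ⟶ R), E T (a * b) = E T a * E T b := by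
    intro T a b
    have h0 : a * b = lift a b ≫ μ[R] := Hom.mul_def a b
    have hμ : E (R ⊗ R) μ[R] = E (R ⊗ R) (fst R R) * E (R ⊗ R) (snd R R) :=
      (E (R ⊗ R)).apply_symm_apply _
    rw [h0, hE, hμ, map_mul, ← hE, ← hE, lift_fst, lift_snd]
  let P : ∀ T : Over (Spec (CommRingCat.of k)), (T ⟶ R) ≃* (Γ((Red.bc π T).left, ⊤))ˣ :=
    fun T => MulEquiv.mk' (E T) (hmul T)
  have hcomm : IsCommMonObj R := ⟨by
    have h : μ[R] = fst R R * snd R R := by rw [Hom.mul_def, lift_fst_snd, Category.id_comp]
    rw [h, MonObj.comp_mul]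
    erw [show (β_ R R).hom ≫ fst R R = snd R R from braiding_hom_fst R R,
      show (β_ R R).hom ≫ snd R R = fst R R from braiding_hom_snd R R]
    exact (P (R ⊗ R)).injective (by rw [map_mul, map_mul, mul_comm])⟩
  exact ⟨⟨R, inferInstance, hcomm, haff, P, fun T T' t x => hE t x⟩⟩

end Groth.Agent.PushGmTorusLib

end
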