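import Groth.Agent.DSHomField.Main
import Groth.Prelude.Def_GmPts
import Mathlib.RingTheory.Etale.Field

/-!
Units of a finite étale algebra over an algebraically closed field, on affine test schemes.
-/

set_option autoImplicit false
set_option backward.isDefEq.respectTransparency false
set_option backward.isDefEq.respectTransparency.types false
set_option linter.style.haveILetI false

universe u

open CategoryTheory CategoryTheory.Limits MonoidalCategory CartesianMonoidalCategory MonObj AlgebraicGeometry Opposite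
open TensorProduct

noncomputable section

namespace Groth.Agent.PushGmTorusLib

variable {k Ω A : Type u} [Field k] [Field Ω] [CommRing A] [Algebra k Ω] [Algebra k A]

/-- A finite étale algebra splits over an algebraically closed field. -/
theorem exists_split_alg [IsAlgClosed Ω] [Algebra.Etale k A] :
    ∃ (n : ℕ) (σ : Fin n → (A →ₐ[k] Ω)) (θ : Ω ⊗[k] A ≃ₐ[Ω] (Fin n → Ω)), ∀ (a : A) i, θ (1 ⊗ₜ a) i = σ i a := by
  haveI : Module.Finite Ω (Ω ⊗[k] A) := Algebra.FormallyUnramified.finite_of_free Ω _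
  haveI : IsArtinianRing (Ω ⊗[k] A) := isArtinian_of_tower Ω inferInstance
  haveI : Finite (PrimeSpectrum (Ω ⊗[k] A)) :=
    Finite.of_equiv _ IsArtinianRing.primeSpectrumEquivMaximalSpectrum.symm
  let p := Finite.equivFin (PrimeSpectrum (Ω ⊗[k] A))
  let θ : Ω ⊗[k] A ≃ₐ[Ω] (Fin (Nat.card (PrimeSpectrum (Ω ⊗[k] A))) → Ω) :=
    (Algebra.FormallyEtale.equivPiOfIsSepClosed Ω (Ω ⊗[k] A)).trans (AlgEquiv.piCongrLeft Ω (fun _ => Ω) p)
  refine ⟨_, fun i => (((Pi.evalAlgHom Ω (fun _ => Ω) i).comp θ.toAlgHom).restrictScalars k).comp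
    Algebra.TensorProduct.includeRight, θ, fun a i => rfl⟩

/-- Functions after base change to an algebra over the splitting field. -/
theorem split_bijective {n : ℕ} (σ : Fin n → (A →ₐ[k] Ω)) (θ : Ω ⊗[k] A ≃ₐ[Ω] (Fin n → Ω))
    (hθ : ∀ (a : A) i, θ (1 ⊗ₜ a) i = σ i a) (B : Type u) [CommRing B] [Algebra k B] [Algebra Ω B]
    [IsScalarTower k Ω B] (f : B ⊗[k] A →+* (Fin n → B))
    (hf : ∀ b a i, f (b ⊗ₜ a) i = b * algebraMap Ω B (σ i a)) : Function.Bijective f := by
  let E : B ⊗[k] A ≃ₐ[B] (Fin n → B) :=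
    ((Algebra.TensorProduct.cancelBaseChange k Ω B B A).symm.trans
      (Algebra.TensorProduct.congr AlgEquiv.refl θ)).trans (Algebra.TensorProduct.piScalarRight Ω B B (Fin n))
  have h : ∀ x, f x = E x := by
    intro x
    induction x using TensorProduct.induction_on with
    | zero => simp
    | add x y hx hy => rw [map_add, map_add, hx, hy]
    | tmul b a =>
      funext i
      rw [hf]
      simp [E, hθ, Algebra.smul_def, mul_comm]
  exact (funext h : ⇑f = ⇑E) ▸ E.bijective

variable (k Ω A) in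
/-- The base. -/
abbrev gMap : Spec (CommRingCat.of Ω) ⟶ Spec (CommRingCat.of k) := Spec.map (CommRingCat.ofHom (algebraMap k Ω))

variable (k A) in
/-- The algebra. -/
abbrev piMap : Spec (CommRingCat.of A) ⟶ Spec (CommRingCat.of k) := Spec.map (CommRingCat.ofHom (algebraMap k A))

/-- The section given by a point of the algebra. -/
def sect (σ : A →ₐ[k] Ω) (X : Over (Spec (CommRingCat.of Ω))) :
    X.left ⟶ (Red.bc (piMap k A) ((Over.map (gMap k Ω)).obj X)).left :=
  pullback.lift (𝟙 _) (X.hom ≫ Spec.map (CommRingCat.ofHom σ.toRingHom)) (by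
    rw [Category.id_comp, Category.assoc]
    show X.hom ≫ gMap k Ω = X.hom ≫ _ ≫ piMap k A
    rw [← Spec.map_comp, ← CommRingCat.ofHom_comp]
    exact congrArg (fun z => X.hom ≫ Spec.map (CommRingCat.ofHom z)) σ.comp_algebraMap.symm)

theorem sect_natural (σ : A →ₐ[k] Ω) {X Y : Over (Spec (CommRingCat.of Ω))} (a : X ⟶ Y) :
    a.left ≫ sect σ Y = sect σ X ≫ ((Over.pullback (piMap k A)).map ((Over.map (gMap k Ω)).map a)).left := by
  apply pullback.hom_ext
  · simp [sect]
    erw [Category.id_comp]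
  · simp [sect, reassoc_of% (Over.w a)]

/-- Functions upstairs as tuples of functions. -/
def secRing {n : ℕ} (σ : Fin n → (A →ₐ[k] Ω)) (X : Over (Spec (CommRingCat.of Ω))) :
    Γ((Red.bc (piMap k A) ((Over.map (gMap k Ω)).obj X)).left, ⊤) →+* (Fin n → Γ(X.left, ⊤)) :=
  RingHom.pi fun i => (sect (σ i) X).appTop.hom

theorem secRing_bijective {n : ℕ} (σ : Fin n → (A →ₐ[k] Ω)) (θ : Ω ⊗[k] A ≃ₐ[Ω] (Fin n → Ω))
    (hθ : ∀ (a : A) i, θ (1 ⊗ₜ a) i = σ i a) (X : Over (Spec (CommRingCat.of Ω))) [IsAffine X.left] :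
    Function.Bijective (secRing σ X) := by
  let B : Type u := Γ(X.left, ⊤)
  let ψ : CommRingCat.of Ω ⟶ Γ(X.left, ⊤) := Spec.preimage (X.left.isoSpec.inv ≫ X.hom)
  have hX : X.hom = X.left.isoSpec.hom ≫ Spec.map ψ := by rw [Spec.map_preimage, Iso.hom_inv_id_assoc]
  letI : Algebra Ω B := ψ.hom.toAlgebra
  letI : Algebra k B := (ψ.hom.comp (algebraMap k Ω)).toAlgebra
  haveI : IsScalarTower k Ω B := IsScalarTower.of_algebraMap_eq fun _ => rfl
  let T := (Over.map (gMap k Ω)).obj X
  have hT : T.hom = X.left.isoSpec.hom ≫ Spec.map (CommRingCat.ofHom (algebraMap k B)) := by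
    show X.hom ≫ gMap k Ω = _
    rw [hX, Category.assoc, ← Spec.map_comp]
    rfl
  let m : (Red.bc (piMap k A) T).left ⟶ pullback (Spec.map (CommRingCat.ofHom (algebraMap k B))) (piMap k A) :=
    pullback.map _ _ _ _ X.left.isoSpec.hom (𝟙 _) (𝟙 _) (by rw [Category.comp_id]; exact hT) (by simp)
  haveI : IsIso m := inferInstanceAs (IsIso (pullback.map _ _ _ _ _ _ _ _ _))
  let c : (Red.bc (piMap k A) T).left ⟶ Spec (CommRingCat.of (B ⊗[k] A)) := m ≫ (pullbackSpecIso k B A).hom
  haveI : IsIso c := inferInstanceAs (IsIso (m ≫ _))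
  let φ : ∀ i, B ⊗[k] A →+* B := fun i => (Algebra.TensorProduct.lift (AlgHom.id B B)
    ((IsScalarTower.toAlgHom k Ω B).comp (σ i)) fun _ _ => Commute.all _ _).toRingHom
  have hc : ∀ i, sect (σ i) X ≫ c = X.left.isoSpec.hom ≫ Spec.map (CommRingCat.ofHom (φ i)) := by
    intro i
    rw [← cancel_mono (pullbackSpecIso k B A).inv]
    simp only [c, Category.assoc, Iso.hom_inv_id, Category.comp_id]
    apply pullback.hom_ext
    · simp only [Category.assoc, pullbackSpecIso_inv_fst, ← Spec.map_comp]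
      have e : CommRingCat.ofHom (Algebra.TensorProduct.includeLeftRingHom : B →+* B ⊗[k] A) ≫
          CommRingCat.ofHom (φ i) = 𝟙 _ := CommRingCat.hom_ext (RingHom.ext fun b => by simp [φ])
      erw [e, Spec.map_id, Category.comp_id]
      simp [m, sect]
      rw [← Category.assoc]
      erw [pullback.lift_fst, Category.id_comp]
    · simp only [Category.assoc, pullbackSpecIso_inv_snd, ← Spec.map_comp]
      have e : CommRingCat.ofHom (Algebra.TensorProduct.includeRight : A →ₐ[k] B ⊗[k] A).toRingHom ≫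
          CommRingCat.ofHom (φ i) = CommRingCat.ofHom (σ i).toRingHom ≫ ψ :=
        CommRingCat.hom_ext (RingHom.ext fun a => by simp [φ]; rfl)
      erw [e]
      refine Eq.trans ?_ (congrArg (X.left.isoSpec.hom ≫ ·) (Spec.map_comp _ _).symm)
      rw [← Category.assoc X.left.isoSpec.hom, ← hX]
      simp [m, sect]
      erw [pullback.lift_snd]
  let e1 : Γ(Spec (CommRingCat.of (B ⊗[k] A)), ⊤) →+* Γ((Red.bc (piMap k A) T).left, ⊤) := c.appTop.hom
  have he1 : Function.Bijective e1 := ConcreteCategory.bijective_of_isIso c.appTop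
  let e0 : B ⊗[k] A →+* Γ(Spec (CommRingCat.of (B ⊗[k] A)), ⊤) :=
    (Scheme.ΓSpecIso (CommRingCat.of (B ⊗[k] A))).inv.hom
  have he0 : Function.Bijective e0 := ConcreteCategory.bijective_of_isIso (Scheme.ΓSpecIso _).inv
  have key : Function.Bijective ((secRing σ X).comp (e1.comp e0)) := by
    refine split_bijective σ θ hθ B _ fun b a i => ?_
    have h1 := congrArg Scheme.Hom.appTop (hc i)
    have h2 : (sect (σ i) X).appTop (c.appTop (e0 (b ⊗ₜ a))) =
        X.left.isoSpec.hom.appTop ((Spec.map (CommRingCat.ofHom (φ i))).appTop (e0 (b ⊗ₜ a))) :=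
      ConcreteCategory.congr_hom h1 (e0 (b ⊗ₜ a))
    refine h2.trans ?_
    have h3 := ConcreteCategory.congr_hom (Scheme.ΓSpecIso_inv_naturality (CommRingCat.ofHom (φ i))) (b ⊗ₜ a)
    refine (congrArg _ h3.symm).trans ?_
    show (X.left.isoSpec.hom.appTop) ((Scheme.ΓSpecIso (CommRingCat.of B)).inv (φ i (b ⊗ₜ a))) = _
    have h4 : (Scheme.ΓSpecIso (CommRingCat.of B)).inv ≫ X.left.isoSpec.hom.appTop = 𝟙 _ := by
      rw [Scheme.isoSpec_hom, Scheme.toSpecΓ_appTop]
      exact Iso.inv_hom_id _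
    refine (ConcreteCategory.congr_hom h4 (φ i (b ⊗ₜ a))).trans ?_
    simp [φ]
    rfl
  exact (Function.Bijective.of_comp_iff _ (he1.comp he0)).1 key

end Groth.Agent.PushGmTorusLib

end
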