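import Groth.Agent.PushGmTorusLib.Repr
import Groth.Agent.PushGmTorusLib.Split
import Groth.Agent.QuotTorus.Main

/-!
The group scheme of units of a finite étale algebra over a field is a torus.
-/

set_option autoImplicit false
set_option backward.isDefEq.respectTransparency false
set_option backward.isDefEq.respectTransparency.types false
set_option linter.style.haveILetI false
set_option synthInstance.maxHeartbeats 400000

universe u

open CategoryTheory CategoryTheory.Limits MonoidalCategory CartesianMonoidalCategory MonObj AlgebraicGeometry Opposite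

noncomputable section

namespace Groth.Agent.PushGmTorusLib

/-- Tuples of units are characters of the free group. -/
def charEquiv (n : ℕ) (B : Type u) [CommRing B] :
    (Fin n → Bˣ) ≃* (Multiplicative (Fin n → ℤ) →* B) where
  toFun v :=
    { toFun := fun m => ((∏ i, v i ^ (Multiplicative.toAdd m) i : Bˣ) : B)
      map_one' := by simp
      map_mul' := fun a b => by simp [zpow_add, Finset.prod_mul_distrib] }
  invFun χ i := χ.toHomUnits (Multiplicative.ofAdd (Pi.single i 1))
  left_inv v := by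
    funext i
    apply Units.ext
    show ((∏ j, v j ^ (Pi.single i (1 : ℤ) : Fin n → ℤ) j : Bˣ) : B) = v i
    rw [Finset.prod_eq_single i (fun j _ hj => by simp [hj]) (fun h => absurd (Finset.mem_univ i) h)]
    simp
  right_inv χ := by
    refine MonoidHom.ext fun m => ?_
    show ((∏ j, (χ.toHomUnits (Multiplicative.ofAdd (Pi.single j 1))) ^ (Multiplicative.toAdd m) j : Bˣ) : B) = χ m
    have h : m = ∏ j, (Multiplicative.ofAdd (Pi.single j (1 : ℤ) : Fin n → ℤ)) ^ (Multiplicative.toAdd m) j := by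
      apply Multiplicative.toAdd.injective
      rw [toAdd_prod]
      funext i
      simp [Finset.sum_apply, Pi.single_apply]
    conv_rhs => rw [h]
    rw [← MonoidHom.coe_toHomUnits χ, map_prod]
    simp only [map_zpow]
  map_mul' v w := MonoidHom.ext fun m => by simp [mul_zpow, Finset.prod_mul_distrib]

variable {S : Scheme.{u}} {M : Type} [AddCommGroup M]

/-- The canonical chart of an affine test scheme. -/
def specIso (X : Over S) [IsAffine X.left] : X ≅ Over.mk (X.left.isoSpec.inv ≫ X.hom) :=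
  Over.isoMk X.left.isoSpec (by simp)

/-- Points of a diagonalisable group over any affine test scheme. -/
def dsPtAff (M : Type) [AddCommGroup M] (X : Over S) [IsAffine X.left] :
    (Multiplicative M →* Γ(X.left, ⊤)) ≃* (X ⟶ Red.DS S M) :=
  (DSMapLib.dsPt (B := Γ(X.left, ⊤)) M (X.left.isoSpec.inv ≫ X.hom)).trans (FixedSmooth.precompEquiv (G := Red.DS S M) (specIso X))

theorem dsPt_congr {B : CommRingCat.{u}} {q q' : Spec B ⟶ S} (h : q = q') (χ : Multiplicative M →* B) :
    (Over.homMk (𝟙 _) (by simp [h]) : Over.mk q ⟶ Over.mk q') ≫ DSMapLib.dsPt M q' χ = DSMapLib.dsPt M q χ := by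
  subst h
  exact Category.id_comp _

theorem dsPtAff_natural {X Y : Over S} [IsAffine X.left] [IsAffine Y.left] (a : X ⟶ Y)
    (χ : Multiplicative M →* Γ(Y.left, ⊤)) :
    a ≫ dsPtAff M Y χ = dsPtAff M X (a.left.appTop.hom.toMonoidHom.comp χ) := by
  have hq : X.left.isoSpec.inv ≫ X.hom = Spec.map a.left.appTop ≫ Y.left.isoSpec.inv ≫ Y.hom := by
    rw [Scheme.isoSpec_inv_naturality_assoc, Over.w a]
  show a ≫ (specIso Y).hom ≫ DSMapLib.dsPt M _ χ = (specIso X).hom ≫ DSMapLib.dsPt M _ _
  rw [← dsPt_congr hq, ← DSHomField.dsPt_natural, ← Category.assoc, ← Category.assoc, ← Category.assoc]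
  congr 1
  refine Over.OverMorphism.ext ?_
  show a.left ≫ Y.left.isoSpec.hom = (X.left.isoSpec.hom ≫ 𝟙 _) ≫ Spec.map a.left.appTop
  rw [Category.comp_id, Scheme.isoSpec_hom_naturality]

variable {k A : Type u} [Field k] [CommRing A] [Algebra k A]

theorem isTorus_unitsRep [Algebra.Etale k A] (D : UnitsRep (piMap k A)) : Red.IsTorus D.R := by
  let Ω := AlgebraicClosure k
  let g := gMap k Ω
  obtain ⟨n, σ, θ, hθ⟩ := exists_split_alg (k := k) (Ω := Ω) (A := A)
  haveI : Flat g := (HasRingHomProperty.Spec_iff (P := @Flat)).2 (RingHom.flat_algebraMap_iff.2 inferInstance)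
  haveI : Surjective g := ⟨fun s => ⟨Classical.arbitrary _, Subsingleton.elim _ _⟩⟩
  refine ⟨Spec (CommRingCat.of Ω), g, inferInstance, inferInstance, fun V hV => ?_, fun s' => ?_⟩
  · exact ⟨g ⁻¹ᵁ V, g.isCompact_preimage hV.isCompact, Set.image_preimage_eq _ g.surjective⟩
  refine ⟨⊤, trivial, n, QuotTorus.isSplit_of_comp (⊤ : (Spec (CommRingCat.of Ω)).Opens).ι g rfl ?_⟩
  let G := Red.bc g D.R
  haveI : IsAffine G.left := inferInstanceAs (IsAffine (pullback D.R.hom g))
  haveI : IsAffine (Red.diag (ULift.{u} ℤ) (Fin n → ℤ)).left := isAffine_Spec _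
  haveI : IsAffine (Red.DS (Spec (CommRingCat.of Ω)) (Fin n → ℤ)).left := inferInstanceAs (IsAffine (pullback (Red.diag (ULift.{u} ℤ) (Fin n → ℤ)).hom _))
  haveI : IsAffine (G ⊗ G).left := inferInstanceAs (IsAffine (pullback G.hom G.hom))
  let U : ∀ (X : Over (Spec (CommRingCat.of Ω))) [IsAffine X.left],
      Γ((Red.bc (piMap k A) ((Over.map g).obj X)).left, ⊤)ˣ ≃* (Fin n → Γ(X.left, ⊤)ˣ) := fun X _ =>
    (Units.mapEquiv (RingEquiv.ofBijective (secRing σ X) (secRing_bijective σ θ hθ X)).toMulEquiv).trans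
      MulEquiv.piUnits
  let Φ : ∀ (X : Over (Spec (CommRingCat.of Ω))) [IsAffine X.left], (X ⟶ G) ≃* (X ⟶ Red.DS (Spec (CommRingCat.of Ω)) (Fin n → ℤ)) := fun X _ =>
    (FixedSmooth.adjEquiv g D.R X).symm.trans ((D.pt _).trans ((U X).trans ((charEquiv n _).trans (dsPtAff (Fin n → ℤ) X))))
  refine nonempty_grpIso_of_pts Φ fun X Y _ _ a x => ?_
  show dsPtAff _ X _ = a ≫ dsPtAff _ Y _
  rw [dsPtAff_natural]
  have h1 : (FixedSmooth.adjEquiv g D.R X).symm (a ≫ x) = (Over.map g).map a ≫ (FixedSmooth.adjEquiv g D.R Y).symm x :=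
    (Over.mapPullbackAdj g).homEquiv_naturality_left_symm a x
  show dsPtAff _ X (charEquiv n _ (U X (D.pt _ ((FixedSmooth.adjEquiv g D.R X).symm (a ≫ x))))) =
    dsPtAff _ X (a.left.appTop.hom.toMonoidHom.comp
      (charEquiv n _ (U Y (D.pt _ ((FixedSmooth.adjEquiv g D.R Y).symm x)))))
  rw [h1, D.nat]
  generalize D.pt _ ((FixedSmooth.adjEquiv g D.R Y).symm x) = v
  have h2 : U X (Units.map (bcMap (piMap k A) ((Over.map g).map a)).appTop.hom.toMonoidHom v) =
      fun i => Units.map a.left.appTop.hom.toMonoidHom (U Y v i) := by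
    funext i
    apply Units.ext
    have h := congrArg Scheme.Hom.appTop (sect_natural (σ i) a)
    exact (ConcreteCategory.congr_hom h (v : Γ((Red.bc (piMap k A) ((Over.map g).obj Y)).left, ⊤))).symm
  rw [h2]
  have h3 : charEquiv n Γ(X.left, ⊤) (fun i => Units.map a.left.appTop.hom.toMonoidHom (U Y v i)) =
      a.left.appTop.hom.toMonoidHom.comp (charEquiv n Γ(Y.left, ⊤) (U Y v)) := by
    refine MonoidHom.ext fun m => ?_
    show ((∏ i, _ : Γ(X.left, ⊤)ˣ) : Γ(X.left, ⊤)) = ((Units.map a.left.appTop.hom.toMonoidHom) (∏ i, _) : Γ(X.left, ⊤)ˣ)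
    rw [map_prod]
    simp only [map_zpow]
  rw [h3]

end Groth.Agent.PushGmTorusLib

end
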